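import Mathlib

/-!
# Quasi-homeomorphisms and inverse images of sheaves

A continuous map induces a bijection on open subsets if and only if the inverse image of sheaves of sets, or of
abelian groups, is an equivalence.
-/

set_option autoImplicit false
universe u

open CategoryTheory CategoryTheory.Limits TopologicalSpace Opposite TopCat

noncomputable section

namespace QHomeoSheafLib

variable {X₀ X : TopCat.{u}} (f : X₀ ⟶ X)

theorem map_le_map_iff (h : Function.Bijective fun U : Opens X => (Opens.map f).obj U) {U V : Opens X}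
    (hUV : (Opens.map f).obj U ≤ (Opens.map f).obj V) : U ≤ V := by
  have : (Opens.map f).obj (U ⊓ V) = (Opens.map f).obj U := Opens.ext (Set.inter_eq_left.mpr hUV)
  exact inf_eq_left.mp (h.1 this)

/-- A map inducing a bijection on opens gives an equivalence of the posets of opens. -/
theorem isEquivalence_map (h : Function.Bijective fun U : Opens X => (Opens.map f).obj U) :
    (Opens.map f).IsEquivalence where
  faithful := ⟨fun {_ _} _ _ _ => Subsingleton.elim _ _⟩
  full := ⟨fun {U V} i => ⟨homOfLE (map_le_map_iff f h (leOfHom i)), Subsingleton.elim _ _⟩⟩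
  essSurj := ⟨fun W => by
    obtain ⟨U, hU⟩ := h.2 W
    exact ⟨U, ⟨eqToIso hU⟩⟩⟩

/-- A map inducing a bijection on opens gives an equivalence of sites. -/
theorem isDenseSubsite_map (h : Function.Bijective fun U : Opens X => (Opens.map f).obj U) :
    (Opens.map f).IsDenseSubsite (Opens.grothendieckTopology X) (Opens.grothendieckTopology X₀) := by
  haveI := isEquivalence_map f h
  refine { functorPushforward_mem_iff := fun {U S} => ⟨fun hS x hx => ?_, fun hS y hy => ?_⟩ }
  · let T : Opens X := ⟨{z | ∃ (V : Opens X) (i : V ⟶ U), S.arrows i ∧ z ∈ V}, by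
      rw [isOpen_iff_forall_mem_open]
      rintro z ⟨V, i, hi, hz⟩
      exact ⟨V, fun w hw => ⟨V, i, hi, hw⟩, V.2, hz⟩⟩
    have hUT : U ≤ T := map_le_map_iff f h fun y hy => by
      obtain ⟨W, j, ⟨V, i, k, hi, -⟩, hyW⟩ := hS y hy
      exact ⟨V, i, hi, leOfHom k hyW⟩
    obtain ⟨V, i, hi, hxV⟩ := hUT hx
    exact ⟨V, i, hi, hxV⟩
  · obtain ⟨V, i, hi, hV⟩ := hS (f y) hy
    exact ⟨(Opens.map f).obj V, (Opens.map f).map i, ⟨V, i, 𝟙 _, hi, (Category.id_comp _).symm⟩, hV⟩

section Gen

variable (A : Type (u + 1)) [Category.{u} A] {FA : A → A → Type u} {CA : A → Type u}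
  [∀ X Y, FunLike (FA X Y) (CA X) (CA Y)] [ConcreteCategory.{u} A FA] [HasColimits A] [HasLimits A]
  [PreservesLimits (forget A)] [PreservesFilteredColimits (forget A)] [(forget A).ReflectsIsomorphisms]

theorem isEquivalence_pullback_of_bijective (h : Function.Bijective fun U : Opens X => (Opens.map f).obj U) :
    (TopCat.Sheaf.pullback A f).IsEquivalence := by
  haveI := isEquivalence_map f h
  haveI := isDenseSubsite_map f h
  haveI : (TopCat.Sheaf.pushforward A f).IsEquivalence :=
    inferInstanceAs ((Opens.map f).sheafPushforwardContinuous A (Opens.grothendieckTopology X)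
      (Opens.grothendieckTopology X₀)).IsEquivalence
  exact (TopCat.Sheaf.pullbackPushforwardAdjunction A f).isEquivalence_left_of_isEquivalence_right

theorem injective_of_isEquivalence [(TopCat.Sheaf.pullback A f).IsEquivalence] (T : A) (hT : IsEmpty (T ≅ ⊤_ A)) :
    Function.Injective fun U : Opens X => (Opens.map f).obj U := by
  haveI := (TopCat.Sheaf.pullbackPushforwardAdjunction A f).isEquivalence_right_of_isEquivalence_left
  classical
  have key : ∀ U V : Opens X, U ≤ V → (Opens.map f).obj U = (Opens.map f).obj V → V ≤ U := by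
    intro U V hUV heq x hxV
    by_contra hxU
    let H : TopCat.Sheaf A X := skyscraperSheaf x T
    let G := (TopCat.Sheaf.pushforward A f).objPreimage H
    let e := (TopCat.Sheaf.pushforward A f).objObjPreimageIso H
    haveI : IsIso ((Opens.map f).map (homOfLE hUV)) :=
      ⟨eqToHom heq.symm, Subsingleton.elim _ _, Subsingleton.elim _ _⟩
    haveI : IsIso (((TopCat.Sheaf.pushforward A f).obj G).1.map (homOfLE hUV).op) :=
      inferInstanceAs (IsIso (G.1.map ((Opens.map f).map (homOfLE hUV)).op))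
    let e' : ∀ W, ((TopCat.Sheaf.pushforward A f).obj G).1.obj (op W) ≅ H.1.obj (op W) := fun W =>
      ((TopCat.Sheaf.forget A X).mapIso e).app (op W)
    exact hT.false ((eqToIso (if_pos hxV).symm : T ≅ H.1.obj (op V)) ≪≫ (e' V).symm ≪≫
      asIso (((TopCat.Sheaf.pushforward A f).obj G).1.map (homOfLE hUV).op) ≪≫ e' U ≪≫ eqToIso (if_neg hxU))
  intro U V huv
  have h1 : (Opens.map f).obj (U ⊓ V) = (Opens.map f).obj U := by
    refine Opens.ext (Set.inter_eq_left.mpr fun y hy => ?_)
    exact show y ∈ (Opens.map f).obj V from huv.le hy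
  exact le_antisymm ((key _ U inf_le_left h1).trans inf_le_right)
    ((key _ V inf_le_right (h1.trans huv)).trans inf_le_left)

theorem exists_le_preimage [(TopCat.Sheaf.pullback A f).IsEquivalence] (G : TopCat.Sheaf A X₀) (W : Opens X₀)
    (a b : ToType (G.1.obj (op ⊤))) (hW : G.1.map (homOfLE le_top : W ⟶ ⊤).op a = G.1.map (homOfLE le_top : W ⟶ ⊤).op b)
    (hsep : ∀ V : Opens X₀, G.1.map (homOfLE le_top : V ⟶ ⊤).op a = G.1.map (homOfLE le_top : V ⟶ ⊤).op b → V ≤ W)
    {x₀ : X₀} (hx₀ : x₀ ∈ W) : ∃ U : Opens X, f x₀ ∈ U ∧ (Opens.map f).obj U ≤ W := by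
  haveI := (TopCat.Sheaf.pullbackPushforwardAdjunction A f).isEquivalence_right_of_isEquivalence_left
  classical
  let P : TopCat.Presheaf A X := ((TopCat.Sheaf.pushforward A f).obj G).1
  let M := TopCat.Presheaf.stalk P (f x₀)
  letI hd₀ : ∀ U : Opens X₀, Decidable (x₀ ∈ U) := fun U => Classical.dec _
  let K : TopCat.Sheaf A X₀ := skyscraperSheaf x₀ M
  letI hd : ∀ U : Opens X, Decidable (f x₀ ∈ U) := fun U => hd₀ ((Opens.map f).obj U)
  let η : (TopCat.Sheaf.pushforward A f).obj G ⟶ (TopCat.Sheaf.pushforward A f).obj K :=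
    ObjectProperty.homMk (StalkSkyscraperPresheafAdjunctionAuxs.toSkyscraperPresheaf (f x₀) (𝟙 M))
  obtain ⟨ψ, hψ⟩ := (TopCat.Sheaf.pushforward A f).map_surjective η
  haveI : IsIso (K.1.map (homOfLE (le_top : W ≤ ⊤)).op) := by
    show IsIso (dite _ _ _)
    rw [dif_pos (show x₀ ∈ (op W).unop from hx₀)]
    exact ⟨eqToHom ((if_pos hx₀).trans (if_pos trivial).symm), eqToHom_trans .., eqToHom_trans ..⟩
  have h1 : ψ.1.app (op ⊤) a = ψ.1.app (op ⊤) b := by
    apply (ConcreteCategory.bijective_of_isIso (K.1.map (homOfLE (le_top : W ≤ ⊤)).op)).1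
    rw [← NatTrans.naturality_apply, ← NatTrans.naturality_apply, hW]
  have h2 : η.1.app (op ⊤) a = η.1.app (op ⊤) b := by
    rw [← hψ]
    exact h1
  have h3 : P.germ ⊤ (f x₀) trivial a = P.germ ⊤ (f x₀) trivial b := by
    have e : η.1.app (op ⊤) = P.germ ⊤ (f x₀) trivial ≫ 𝟙 M ≫ eqToHom (if_pos (show f x₀ ∈ (⊤ : Opens X) from trivial)).symm :=
      dif_pos (show f x₀ ∈ (op (⊤ : Opens X)).unop from trivial)
    rw [e, Category.id_comp] at h2
    exact (ConcreteCategory.bijective_of_isIso (eqToHom (if_pos (show f x₀ ∈ (⊤ : Opens X) from trivial)).symm)).1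
      ((ConcreteCategory.comp_apply _ _ a).symm.trans (h2.trans (ConcreteCategory.comp_apply _ _ b)))
  obtain ⟨U, hU, i₁, i₂, h4⟩ := TopCat.Presheaf.germ_eq P (f x₀) (U := ⊤) (V := ⊤) trivial trivial a b h3
  refine ⟨U, hU, hsep _ ?_⟩
  rw [Subsingleton.elim i₂ i₁] at h4
  exact h4

theorem bijective_of_isEquivalence [(TopCat.Sheaf.pullback A f).IsEquivalence] (T : A) (hT : IsEmpty (T ≅ ⊤_ A))
    (h : ∀ W : Opens X₀, ∃ (G : TopCat.Sheaf A X₀) (a b : ToType (G.1.obj (op ⊤))),
      G.1.map (homOfLE le_top : W ⟶ ⊤).op a = G.1.map (homOfLE le_top : W ⟶ ⊤).op b ∧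
      ∀ V : Opens X₀, G.1.map (homOfLE le_top : V ⟶ ⊤).op a = G.1.map (homOfLE le_top : V ⟶ ⊤).op b → V ≤ W) :
    Function.Bijective fun U : Opens X => (Opens.map f).obj U := by
  refine ⟨injective_of_isEquivalence f A T hT, fun W => ?_⟩
  obtain ⟨G, a, b, hW, hsep⟩ := h W
  let U : Opens X := ⨆ (V : Opens X) (_ : (Opens.map f).obj V ≤ W), V
  refine ⟨U, le_antisymm (fun y hy => ?_) fun y hy => ?_⟩
  · obtain ⟨V, hV, hyV⟩ : ∃ V : Opens X, (Opens.map f).obj V ≤ W ∧ f y ∈ V := by
      simpa [U] using hy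
    exact hV hyV
  · obtain ⟨V, hyV, hV⟩ := exists_le_preimage f A G W a b hW hsep hy
    show f y ∈ U
    exact Opens.mem_iSup.mpr ⟨V, Opens.mem_iSup.mpr ⟨hV, hyV⟩⟩

end Gen

/-- Integer valued functions on the part of an open subset outside a given one, as a presheaf of groups. -/
def funPresheaf (W : Opens X₀) : TopCat.Presheaf AddCommGrpCat.{u} X₀ where
  obj U := AddCommGrpCat.of (∀ x : U.unop, PLift (x.1 ∉ W) → ULift.{u} ℤ)
  map {U V} i := AddCommGrpCat.ofHom
    { toFun := fun g x => g ⟨x.1, leOfHom i.unop x.2⟩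
      map_zero' := rfl
      map_add' := fun _ _ => rfl }
  map_id _ := rfl
  map_comp _ _ := rfl

theorem funPresheaf_isSheaf (W : Opens X₀) : (funPresheaf W).IsSheaf := by
  rw [TopCat.Presheaf.isSheaf_iff_isSheaf_comp' (forget AddCommGrpCat.{u})]
  exact TopCat.Presheaf.toTypes_isSheaf X₀ fun x => PLift (x ∉ W) → ULift.{u} ℤ

theorem bijective_of_isEquivalence_ab [(TopCat.Sheaf.pullback AddCommGrpCat.{u} f).IsEquivalence] :
    Function.Bijective fun U : Opens X => (Opens.map f).obj U := by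
  refine bijective_of_isEquivalence f AddCommGrpCat.{u} (AddCommGrpCat.of (ULift.{u} ℤ)) ⟨fun e => ?_⟩ fun W =>
    ⟨⟨funPresheaf W, funPresheaf_isSheaf W⟩, fun _ _ => ⟨0⟩, fun _ _ => ⟨1⟩, ?_, fun V hV x hx => ?_⟩
  · have hz : IsZero (⊤_ AddCommGrpCat.{u}) := IsZero.of_iso (isZero_zero _)
      (terminalIsTerminal.uniqueUpToIso HasZeroObject.zeroIsTerminal)
    haveI := AddCommGrpCat.subsingleton_of_isZero (hz.of_iso e)
    exact zero_ne_one (congrArg ULift.down (Subsingleton.elim (⟨0⟩ : ULift.{u} ℤ) ⟨1⟩))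
  · funext x h
    exact absurd x.2 h.down
  · by_contra hxW
    exact zero_ne_one (congrArg ULift.down (congrFun (congrFun hV ⟨x, hx⟩) ⟨hxW⟩))

theorem bijective_of_isEquivalence_type [(TopCat.Sheaf.pullback (Type u) f).IsEquivalence] :
    Function.Bijective fun U : Opens X => (Opens.map f).obj U := by
  refine bijective_of_isEquivalence f (Type u) (ULift.{u} Bool) ⟨fun e => ?_⟩ fun W =>
    ⟨⟨TopCat.presheafToTypes X₀ fun x => PLift (x ∉ W) → ULift.{u} Bool, TopCat.Presheaf.toTypes_isSheaf X₀ _⟩,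
      fun _ _ => ⟨false⟩, fun _ _ => ⟨true⟩, ?_, fun V hV x hx => ?_⟩
  · have h1 := congrArg ULift.down ((e ≪≫ Types.terminalIso).toEquiv.injective
      (Subsingleton.elim ((e ≪≫ Types.terminalIso).toEquiv ⟨false⟩) ((e ≪≫ Types.terminalIso).toEquiv ⟨true⟩)))
    exact Bool.false_ne_true h1
  · funext x h
    exact absurd x.2 h.down
  · by_contra hxW
    exact Bool.false_ne_true (congrArg ULift.down (congrFun (congrFun hV ⟨x, hx⟩) ⟨hxW⟩))

end QHomeoSheafLib
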